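import Groth.Agent.Etbase.FpqcDescent
import Mathlib.AlgebraicGeometry.AlgClosed.Basic
import Mathlib.AlgebraicGeometry.ZariskisMainTheorem
import Mathlib.FieldTheory.IsAlgClosed.AlgebraicClosure

/-!
# Finiteness of proper morphisms with finitely many geometric points in each geometric fibre
-/

set_option autoImplicit false
universe u

open CategoryTheory Limits AlgebraicGeometry

namespace K135.FinGeom

/-- A scheme locally of finite type over an algebraically closed field with finitely many rational points is a
finite set. -/
theorem finite_of_finite_pts {K : Type u} [Field K] [IsAlgClosed K] {X : Scheme.{u}}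
    (f : X ⟶ Spec (.of K)) [LocallyOfFiniteType f] [Finite {p : Spec (.of K) ⟶ X // p ≫ f = 𝟙 _}] :
    Finite X := by
  have h1 : (closedPoints X).Finite := by
    have := Finite.of_equiv _ (pointEquivClosedPoint f)
    exact Set.toFinite _
  have h2 : IsClosed (closedPoints (X : Type u)) := by
    rw [← Set.biUnion_of_singleton (closedPoints (X : Type u))]
    exact h1.isClosed_biUnion fun x hx => hx
  have : JacobsonSpace X := LocallyOfFiniteType.jacobsonSpace f
  have h3 : closedPoints (X : Type u) = Set.univ := by
    rw [← closure_closedPoints (X := (X : Type u)), h2.closure_eq]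
  exact Set.finite_univ_iff.mp (h3 ▸ h1)

theorem locallyQuasiFinite {X S : Scheme.{u}} (f : X ⟶ S) [LocallyOfFiniteType f]
    (h : ∀ (K : Type u) [Field K] [IsAlgClosed K] (t : Spec (CommRingCat.of K) ⟶ S),
      Finite {y : Spec (CommRingCat.of K) ⟶ X // y ≫ f = t}) : LocallyQuasiFinite f := by
  refine LocallyQuasiFinite.of_fiberToSpecResidueField _ fun s => ?_
  let K : Type u := AlgebraicClosure (S.residueField s)
  let φ : Spec (CommRingCat.of K) ⟶ Spec (S.residueField s) :=
    Spec.map (CommRingCat.ofHom (algebraMap (S.residueField s) K))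
  have hφ : (@Surjective ⊓ @Flat ⊓ @QuasiCompact : MorphismProperty Scheme.{u}) φ := by
    refine ⟨⟨?_, ?_⟩, inferInstance⟩
    · refine ⟨fun x => ⟨IsLocalRing.closedPoint K, ?_⟩⟩
      have : Subsingleton ↥(Spec (S.residueField s)) :=
        inferInstanceAs (Subsingleton (PrimeSpectrum (S.residueField s)))
      exact Subsingleton.elim _ _
    · rw [HasRingHomProperty.Spec_iff (P := @Flat)]
      exact RingHom.flat_algebraMap_iff.mpr inferInstance
  have := Groth.Agent.Etbase.FpqcDescent.descendsAlong_locallyQuasiFinite
  refine MorphismProperty.of_pullback_snd_of_descendsAlong (P := @LocallyQuasiFinite) (g := φ) hφ ?_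
  have hlft : LocallyOfFiniteType (f.fiberToSpecResidueField s) := inferInstanceAs (LocallyOfFiniteType (pullback.snd _ _))
  let p := pullback.snd (f.fiberToSpecResidueField s) φ
  have hp : LocallyOfFiniteType p := inferInstanceAs (LocallyOfFiniteType (pullback.snd _ _))
  let q : pullback (f.fiberToSpecResidueField s) φ ⟶ X := pullback.fst _ _ ≫ f.fiberι s
  have H : IsPullback q p f (φ ≫ S.fromSpecResidueField s) :=
    (IsPullback.of_hasPullback (f.fiberToSpecResidueField s) φ).flip.paste_vert
      (IsPullback.of_hasPullback f (S.fromSpecResidueField s)).flip |>.flip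
  have hfin : Finite {y : Spec (CommRingCat.of K) ⟶ pullback (f.fiberToSpecResidueField s) φ // y ≫ p = 𝟙 _} := by
    have := h K (φ ≫ S.fromSpecResidueField s)
    refine Finite.of_injective (β := {y : Spec (CommRingCat.of K) ⟶ X // y ≫ f = φ ≫ S.fromSpecResidueField s})
      (fun y => ⟨y.1 ≫ q, by rw [Category.assoc, H.w, ← Category.assoc, y.2, Category.id_comp]⟩) ?_
    intro y y' hy
    refine Subtype.ext (H.hom_ext ?_ ?_)
    · exact congrArg Subtype.val hy
    · rw [y.2, y'.2]
  have : Finite ↥(pullback (f.fiberToSpecResidueField s) φ) := finite_of_finite_pts p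
  exact LocallyQuasiFinite.of_finite_preimage_singleton (f := p) fun x => Set.toFinite _

theorem isFinite {X S : Scheme.{u}} (f : X ⟶ S) [IsProper f]
    (h : ∀ (K : Type u) [Field K] [IsAlgClosed K] (t : Spec (CommRingCat.of K) ⟶ S),
      Finite {y : Spec (CommRingCat.of K) ⟶ X // y ≫ f = t}) : IsFinite f := by
  have := locallyQuasiFinite f h
  exact IsFinite.of_isProper_of_locallyQuasiFinite f

end K135.FinGeom
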